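import Cfsg.Agent.Lib.ToddCox.G24X.Data0
set_option autoImplicit false
set_option maxRecDepth 100000
namespace Cfsg.Agent.Lib.ToddCox.G24X
def eT_0_2 (j : ℕ) : ℕ := bif Nat.blt j 1 then E_0 else E_1
def eT (j : ℕ) : ℕ := (eT_0_2 j)
noncomputable def chunkF (h : ℕ) : ℕ := Nat.rec (motive := fun _ => ℕ) (eT 0) (fun n _ => eT (Nat.succ n)) h
noncomputable def Eo (r : ℕ) : ℕ := Nat.land (Nat.shiftRight (chunkF (Nat.shiftRight r 8)) (Nat.mul (Nat.land r 255) 54)) 18014398509481983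
def invT : ℕ := 0xffef7cefae78df6d74cf2c70beeb6caeaa689e69648e28607de75c6da6585d65544d24503ce34c2ca2481c61440c2040
def inv (y : ℕ) : ℕ := invOf invT y
def Wt_0_2 (j : ℕ) : List ℕ := bif Nat.blt j 1 then [nat_lit 0, nat_lit 2, nat_lit 0, nat_lit 2] else [nat_lit 0, nat_lit 3, nat_lit 0, nat_lit 3]
def Wt_2_4 (j : ℕ) : List ℕ := bif Nat.blt j 3 then [nat_lit 0, nat_lit 4, nat_lit 0, nat_lit 4] else [nat_lit 1, nat_lit 3, nat_lit 1, nat_lit 3]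
def Wt_0_4 (j : ℕ) : List ℕ := bif Nat.blt j 2 then (Wt_0_2 j) else (Wt_2_4 j)
def Wt_4_6 (j : ℕ) : List ℕ := bif Nat.blt j 5 then [nat_lit 1, nat_lit 4, nat_lit 1, nat_lit 4] else [nat_lit 2, nat_lit 4, nat_lit 2, nat_lit 4]
def Wt_7_9 (j : ℕ) : List ℕ := bif Nat.blt j 8 then [nat_lit 4, nat_lit 5, nat_lit 4, nat_lit 5] else [nat_lit 2, nat_lit 5, nat_lit 2, nat_lit 5]
def Wt_6_9 (j : ℕ) : List ℕ := bif Nat.blt j 7 then [nat_lit 3, nat_lit 5, nat_lit 3, nat_lit 5] else (Wt_7_9 j)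
def Wt_4_9 (j : ℕ) : List ℕ := bif Nat.blt j 6 then (Wt_4_6 j) else (Wt_6_9 j)
def Wt_0_9 (j : ℕ) : List ℕ := bif Nat.blt j 4 then (Wt_0_4 j) else (Wt_4_9 j)
def Wt_9_11 (j : ℕ) : List ℕ := bif Nat.blt j 10 then [nat_lit 0, nat_lit 5, nat_lit 0, nat_lit 5] else [nat_lit 2, nat_lit 1, nat_lit 2, nat_lit 1, nat_lit 2, nat_lit 1]
def Wt_12_14 (j : ℕ) : List ℕ := bif Nat.blt j 13 then [nat_lit 5, nat_lit 1, nat_lit 3, nat_lit 2, nat_lit 4, nat_lit 2, nat_lit 2, nat_lit 3, nat_lit 2] else [nat_lit 63, nat_lit 1, nat_lit 5, nat_lit 2, nat_lit 3, nat_lit 2, nat_lit 2, nat_lit 4, nat_lit 2, nat_lit 3]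
def Wt_11_14 (j : ℕ) : List ℕ := bif Nat.blt j 12 then [nat_lit 5, nat_lit 1, nat_lit 5, nat_lit 1, nat_lit 5, nat_lit 1] else (Wt_12_14 j)
def Wt_9_14 (j : ℕ) : List ℕ := bif Nat.blt j 11 then (Wt_9_11 j) else (Wt_11_14 j)
def Wt_14_16 (j : ℕ) : List ℕ := bif Nat.blt j 15 then [nat_lit 63, nat_lit 3, nat_lit 63, nat_lit 3] else [nat_lit 63, nat_lit 1, nat_lit 63, nat_lit 1]
def Wt_17_19 (j : ℕ) : List ℕ := bif Nat.blt j 18 then [nat_lit 63, nat_lit 4, nat_lit 63, nat_lit 4] else [nat_lit 63, nat_lit 63, nat_lit 63]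
def Wt_16_19 (j : ℕ) : List ℕ := bif Nat.blt j 17 then [nat_lit 63, nat_lit 2, nat_lit 63, nat_lit 2, nat_lit 63] else (Wt_17_19 j)
def Wt_14_19 (j : ℕ) : List ℕ := bif Nat.blt j 16 then (Wt_14_16 j) else (Wt_16_19 j)
def Wt_9_19 (j : ℕ) : List ℕ := bif Nat.blt j 14 then (Wt_9_14 j) else (Wt_14_19 j)
def Wt_0_19 (j : ℕ) : List ℕ := bif Nat.blt j 9 then (Wt_0_9 j) else (Wt_9_19 j)
def Wt_19_21 (j : ℕ) : List ℕ := bif Nat.blt j 20 then [nat_lit 63, nat_lit 0, nat_lit 63, nat_lit 0] else [nat_lit 63, nat_lit 1, nat_lit 63, nat_lit 1, nat_lit 63]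
def Wt_22_24 (j : ℕ) : List ℕ := bif Nat.blt j 23 then [nat_lit 63, nat_lit 5, nat_lit 63, nat_lit 5] else [nat_lit 0, nat_lit 0, nat_lit 63]
def Wt_21_24 (j : ℕ) : List ℕ := bif Nat.blt j 22 then [nat_lit 2, nat_lit 2, nat_lit 63] else (Wt_22_24 j)
def Wt_19_24 (j : ℕ) : List ℕ := bif Nat.blt j 21 then (Wt_19_21 j) else (Wt_21_24 j)
def Wt_24_26 (j : ℕ) : List ℕ := bif Nat.blt j 25 then [nat_lit 2, nat_lit 3, nat_lit 2, nat_lit 0, nat_lit 3, nat_lit 2, nat_lit 3, nat_lit 2, nat_lit 3] else [nat_lit 2, nat_lit 3, nat_lit 2, nat_lit 3, nat_lit 2, nat_lit 3, nat_lit 2, nat_lit 0, nat_lit 3]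
def Wt_27_29 (j : ℕ) : List ℕ := bif Nat.blt j 28 then [nat_lit 63, nat_lit 2, nat_lit 4, nat_lit 2, nat_lit 4] else [nat_lit 3, nat_lit 3, nat_lit 63]
def Wt_26_29 (j : ℕ) : List ℕ := bif Nat.blt j 27 then [nat_lit 4, nat_lit 2, nat_lit 2, nat_lit 3, nat_lit 2, nat_lit 5, nat_lit 1, nat_lit 3, nat_lit 2] else (Wt_27_29 j)
def Wt_24_29 (j : ℕ) : List ℕ := bif Nat.blt j 26 then (Wt_24_26 j) else (Wt_26_29 j)
def Wt_19_29 (j : ℕ) : List ℕ := bif Nat.blt j 24 then (Wt_19_24 j) else (Wt_24_29 j)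
def Wt_29_31 (j : ℕ) : List ℕ := bif Nat.blt j 30 then [nat_lit 63, nat_lit 3, nat_lit 4, nat_lit 3, nat_lit 4, nat_lit 3, nat_lit 4] else [nat_lit 63, nat_lit 2, nat_lit 63, nat_lit 2]
def Wt_32_34 (j : ℕ) : List ℕ := bif Nat.blt j 33 then [nat_lit 5, nat_lit 5, nat_lit 63] else [nat_lit 63, nat_lit 3, nat_lit 63, nat_lit 3, nat_lit 63]
def Wt_31_34 (j : ℕ) : List ℕ := bif Nat.blt j 32 then [nat_lit 4, nat_lit 4, nat_lit 63] else (Wt_32_34 j)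
def Wt_29_34 (j : ℕ) : List ℕ := bif Nat.blt j 31 then (Wt_29_31 j) else (Wt_31_34 j)
def Wt_34_36 (j : ℕ) : List ℕ := bif Nat.blt j 35 then [nat_lit 63, nat_lit 5, nat_lit 63, nat_lit 5, nat_lit 63] else [nat_lit 63, nat_lit 63, nat_lit 4, nat_lit 63, nat_lit 4]
def Wt_37_39 (j : ℕ) : List ℕ := bif Nat.blt j 38 then [nat_lit 63, nat_lit 63, nat_lit 1, nat_lit 63, nat_lit 1] else [nat_lit 63, nat_lit 5, nat_lit 2, nat_lit 1, nat_lit 0, nat_lit 5, nat_lit 2, nat_lit 1, nat_lit 0, nat_lit 5, nat_lit 2, nat_lit 1, nat_lit 0, nat_lit 5, nat_lit 2, nat_lit 1, nat_lit 0, nat_lit 5, nat_lit 2, nat_lit 1, nat_lit 0]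
def Wt_36_39 (j : ℕ) : List ℕ := bif Nat.blt j 37 then [nat_lit 1, nat_lit 1, nat_lit 63] else (Wt_37_39 j)
def Wt_34_39 (j : ℕ) : List ℕ := bif Nat.blt j 36 then (Wt_34_36 j) else (Wt_36_39 j)
def Wt_29_39 (j : ℕ) : List ℕ := bif Nat.blt j 34 then (Wt_29_34 j) else (Wt_34_39 j)
def Wt_19_39 (j : ℕ) : List ℕ := bif Nat.blt j 29 then (Wt_19_29 j) else (Wt_29_39 j)
def Wt_0_39 (j : ℕ) : List ℕ := bif Nat.blt j 19 then (Wt_0_19 j) else (Wt_19_39 j)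
def Wt (j : ℕ) : List ℕ := (Wt_0_39 j)
def W (j : ℕ) : List ℕ := bif Nat.blt j 39 then Wt j else []
theorem W_ge (j : ℕ) (h : 39 ≤ j) : W j = [] := by
  unfold W
  rw [blt_false_of_le h]
  rfl
def Hl : List ℕ := []
def isH (y : ℕ) : Bool := List.elem y Hl
def Rb : List (List ℕ) := [[nat_lit 0, nat_lit 0],
  [nat_lit 1, nat_lit 1],
  [nat_lit 1, nat_lit 0, nat_lit 1, nat_lit 0, nat_lit 1, nat_lit 0, nat_lit 1, nat_lit 0, nat_lit 1, nat_lit 0],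
  [nat_lit 2, nat_lit 2],
  [nat_lit 2, nat_lit 0, nat_lit 2, nat_lit 0],
  [nat_lit 2, nat_lit 1, nat_lit 2, nat_lit 1, nat_lit 2, nat_lit 1],
  [nat_lit 2, nat_lit 1, nat_lit 0, nat_lit 1, nat_lit 0, nat_lit 2, nat_lit 1, nat_lit 2, nat_lit 0, nat_lit 1, nat_lit 2, nat_lit 0, nat_lit 1, nat_lit 0, nat_lit 1],
  [nat_lit 3, nat_lit 3],
  [nat_lit 3, nat_lit 0, nat_lit 3, nat_lit 0],
  [nat_lit 3, nat_lit 1, nat_lit 3, nat_lit 1],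
  [nat_lit 3, nat_lit 2, nat_lit 3, nat_lit 2, nat_lit 3, nat_lit 2, nat_lit 3, nat_lit 2, nat_lit 3, nat_lit 2, nat_lit 3, nat_lit 2, nat_lit 3, nat_lit 2, nat_lit 3, nat_lit 2],
  [nat_lit 3, nat_lit 2, nat_lit 3, nat_lit 2, nat_lit 3, nat_lit 2, nat_lit 3, nat_lit 2, nat_lit 0],
  [nat_lit 4, nat_lit 4],
  [nat_lit 4, nat_lit 0, nat_lit 4, nat_lit 0],
  [nat_lit 4, nat_lit 1, nat_lit 4, nat_lit 1],
  [nat_lit 4, nat_lit 2, nat_lit 4, nat_lit 2],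
  [nat_lit 4, nat_lit 3, nat_lit 4, nat_lit 3, nat_lit 4, nat_lit 3],
  [nat_lit 4, nat_lit 3, nat_lit 2, nat_lit 3, nat_lit 2, nat_lit 1, nat_lit 3, nat_lit 2, nat_lit 3, nat_lit 2, nat_lit 1, nat_lit 3, nat_lit 2, nat_lit 3, nat_lit 2, nat_lit 1, nat_lit 3, nat_lit 2, nat_lit 3, nat_lit 2, nat_lit 1, nat_lit 3, nat_lit 2, nat_lit 3, nat_lit 2, nat_lit 1, nat_lit 4, nat_lit 3, nat_lit 2, nat_lit 3, nat_lit 2, nat_lit 1, nat_lit 3, nat_lit 2, nat_lit 3, nat_lit 2, nat_lit 1, nat_lit 3, nat_lit 2, nat_lit 3, nat_lit 2, nat_lit 1, nat_lit 3, nat_lit 2, nat_lit 3, nat_lit 2, nat_lit 1, nat_lit 3, nat_lit 2, nat_lit 3, nat_lit 2, nat_lit 1, nat_lit 4, nat_lit 3, nat_lit 2, nat_lit 3, nat_lit 2, nat_lit 1, nat_lit 3, nat_lit 2, nat_lit 3, nat_lit 2, nat_lit 1, nat_lit 3, nat_lit 2, nat_lit 3, nat_lit 2, nat_lit 1, nat_lit 3, nat_lit 2, nat_lit 3, nat_lit 2, nat_lit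 1, nat_lit 3, nat_lit 2, nat_lit 3, nat_lit 2, nat_lit 1],
  [nat_lit 5, nat_lit 5],
  [nat_lit 5, nat_lit 0, nat_lit 5, nat_lit 0],
  [nat_lit 5, nat_lit 1, nat_lit 5, nat_lit 1, nat_lit 5, nat_lit 1],
  [nat_lit 5, nat_lit 2, nat_lit 5, nat_lit 2],
  [nat_lit 5, nat_lit 3, nat_lit 5, nat_lit 3],
  [nat_lit 5, nat_lit 4, nat_lit 5, nat_lit 4],
  [nat_lit 5, nat_lit 2, nat_lit 1, nat_lit 0, nat_lit 5, nat_lit 2, nat_lit 1, nat_lit 0, nat_lit 5, nat_lit 2, nat_lit 1, nat_lit 0, nat_lit 5, nat_lit 2, nat_lit 1, nat_lit 0, nat_lit 5, nat_lit 2, nat_lit 1, nat_lit 0],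
  [nat_lit 5, nat_lit 1, nat_lit 3, nat_lit 2, nat_lit 4, nat_lit 2, nat_lit 2, nat_lit 3, nat_lit 2],
  []]
def spT (j : ℕ) : ℕ := nat_lit 0x30000000020000000200000018000000240000000e000000240000001800000006000020200000000e0000201e0000a032000040160000c0160000000000000024000000060000000200000000000000340000001800000006000000020000000e0000e03300002032000020280000200a000000260000002a0000002e0000002c0000001e0000001c000000120000001a0000001000000008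
def sp (j : ℕ) : ℕ := Nat.land (Nat.shiftRight (spT (Nat.shiftRight j 6)) (Nat.mul (Nat.land j 63) 32)) 4294967295
theorem Eo_lt (r : ℕ) : Eo r < 18014398509481984 := land54_lt _
def cT (j : ℕ) : ℕ := nat_lit 0x0
noncomputable def cChunk (h : ℕ) : ℕ := Nat.rec (motive := fun _ => ℕ) (cT 0) (fun n _ => cT (Nat.succ n)) h
noncomputable def cF (i : ℕ) : ℕ := Nat.land (Nat.shiftRight (cChunk (Nat.shiftRight i 7)) (Nat.mul (Nat.land i 127) 24)) 16777215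
theorem cF_lt (i : ℕ) : cF i < 16777216 := land24_lt _
theorem cF_zero : cF 0 = 0 := by decide +kernel
def nDef : ℕ := 43
def nEv : ℕ := 141
def nW : ℕ := 39
def N : ℕ := 1
def ys : List ℕ := [nat_lit 0, nat_lit 1, nat_lit 2, nat_lit 3, nat_lit 4, nat_lit 5]
def xw : List ℕ := [nat_lit 5, nat_lit 1, nat_lit 3, nat_lit 2, nat_lit 4, nat_lit 2, nat_lit 2, nat_lit 3, nat_lit 2]
end Cfsg.Agent.Lib.ToddCox.G24X
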