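import Cfsg.Agent.Lib.ToddCox.Glue
set_option autoImplicit false
set_option maxRecDepth 100000
namespace Cfsg.Agent.Lib.ToddCox.G24X
def E_0 : ℕ := 0x2000000080000080000002000001fc000000000003f000001000019fc00009c00009ff000019000002140000100000105000002000002fc00005c00005ff0000020000040400009c00009c1000004000004fc000040000043f000004000004fc000060000063f000004000006fc00003800003bf000006000002fc000020000023f000002000006fc00003c00003ff00000600000bfc00001800001bf00000b000009fc000010000013f000009000008fc00005c00005ff0000080000041400005c00005c500000400000410000000000000400000400000bfc00003c00003ff00000b000009fc000040000043f00000900000bfc00003800003bf00000b00000ffc00003800003bf00000f000025fc000000000003f000025000004fc00006800006bf000004000005fc000010000013f00000500001cfc00000800000bf00001c000024fc00000800000bf000024000015fc000020000023f000015000014fc000000000003f000014000001fc00006c00006ff00000100001b0c000028000028300001b00001b08000054000054200001b0000140c000014000014300001400001408000070000070200001400001dfc00006c00006ff00001d0000240c00003c00003c3000024000024080000940000942000024000016fc000050000053f000016000024fc00009800009bf00002400002310000094000094400002300001d08000054000054200001d00001608000070000070200001600002508000098000098200002500001a00000040000040000001a0000060800004000004020000060000050800003c00003c200000500002bfc000094000097f00002b00001efc00006800006bf00001e000008000000080000080000008000022fc00001800001bf00002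2000000080000080000082000000000021fc000014000017f000021000013fc00003c00003ff000013000012fc00003800003bf000012000008fc000030000033f00000800000dfc000000000003f00000d000002fc00007c00007ff000002000029fc000084000087f000029000003fc00000800000bf000003000003fc00007c00007ff000003000011fc000034000037f000011000020fc0000a00000a3f00002000002b08000098000098200002b00002a14000098000098500002a0000290400004c00004c10000290000280400004800004810000280000271400006000006050000270000260400005800005810000260000250c00004000004030000250000240400005000005010000240000220800004000004020000220000210800003c00003c200002100001f08000044000044200001f00001e00000040000040000001e00001d00000058000058000001d00001c0c00002c00002c300001c00001b00000050000050000001b00001a0800002c00002c200001a0000190400002400002410000190000171000001800001840000170000150c000018000018300001500001308000014000014200001300000f04000014000014100000f00000e04000010000010100000e00000a00000014000014000000a0000090000001000001000000090000080000000c00000c0000008000012140000ac0000ac5000012000012080000a80000a82000012000011100000a40000a440000110000110c0000a00000a030000110000100400009c00009c100001000000f0c000098000098300000f00000e14000094000094500000e00000e10000090000090400000e00000e0800008c00008c200000e00000d14000088000088500000d00000d10000084000084400000d00000d0c000080000080300000d00000d0400007c00007c100000d00000c14000078000078500000c00000a0c000074000074300000a0000091400007000007050000090000091000006c00006c40000090000081400006800006850000080000070c00006400006430000070000060400006000006010000060000051400005c00005c50000050000050c00005800005830000050000041400005400005450000040000041000005000005040000040000031000004c00004c40000030000030c00004800004830000030000030400004400004410000030000021400004000004050000020000021000003c00003c40000020000020c00003800003830000020000020800003400003420000020000020000003000003000000020000011400002c00002c50000010000011000002800002840000010000010c00002400002430000010000010800002000002020000010000010400001c00001c10000010000001400001800001850000000000001000001400001440000000000000c00001000001030000000000000800000c00000c2000000000000040000080000081000000000000000000040000040000000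
def E_1 : ℕ := 0x140000000000005000000000000080000000000002000000000000040000000000001000000000002fc000000000003f0000020000001400000800000850000000000001000000000000040000000000000c0000000000003000000000000000000000000000000000000004fc000000000003f000004000002fc00009c00009ff000002000006fc00000800000bf000006000006fc00009c00009ff000006000006fc000064000067f000006
end Cfsg.Agent.Lib.ToddCox.G24X
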