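import Cfsg.Agent.Lib.ToddCox.G24X.Data
set_option autoImplicit false
set_option maxRecDepth 100000
namespace Cfsg.Agent.Lib.ToddCox.G24X
theorem wordsGood : allBelow (wordsOK W (relR Rb inv) inv sp) nW 6 = true := by decide +kernel
theorem d0 : allBits (fun k => bif Nat.blt k 43 then chkDef Eo inv k else true) 13 0 = true := by decide +kernel
def L0 : List ℕ := [nat_lit 0xf4000124000002000007800023800011a000012000028000022c00008200001100004680001cc000116000018000008000008400011600003d000007800013c00011000003e00000700000f800003000001d00003a00001d400009600008600002a000020000001a0000540000298000214000010000052000011000001000000a00002500003080000ac0000f800000c000028000008000004a0000040000270000080000046000003000026000007800000400000b000017800002c00009400005f000015800000c00009000001a00000f800001800008c00005d000013800001000008400001800000f800002000008000001800000e8000014000078000018000001000001400004200000a00001d000005800003e00000900001c000016c00005600000100001b000004000002a00000600001a000016400004e000002000019000003800002a000008000018000003000002200000300001600000200000160000070000140000018000016000006000012000001000001200000500000e000000800001200000400000d000000800000e0000030000090000000000012000002000008000000000000e000001000007000000000000a000000,nat_lit 0x148000334000066000016000061000032c00000e00000e000060000032c00013e0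0001e00003c800032c00000600000f000062000032000001e00001e00003500003200000000000130000098000318000068000010000009800031800003a0000be00001c000007000017c0000b300000a80002e000005400001c00005c00002c400002a00006f00005c80001a80000260000b7000025000007000016e0000ae00000a80001f000016c000079000007800011800008a0000b5000057800006c00008800001a000001000002c00015600007a00005780002b800003400003800002d80002a40000960000ae00003d80002a80000c400001900001500002a40000960000ae00003d80002b00000d200006c00000c000029800010e00001500005200001c400002e0000a000003b800005400013800007500000a800015000013200004900000b00000e800012c00003300000b000025c00002c000017000021000025400001600001600004a000006000002a000090000041800026c0000be000014000012000023c00003a000011000011000023c00003600000e00002b800023c00002e000013,nat_lit 0x11200000100000900001fe00000200004f800044000021600000300004f00004440001fe00000200004f800044000021600000300004f00004440001fe00000200004f800044000004c00010800007c00000800002100000e100000f800042000000c00001c00007e000000000002e0000f5000083000000800001e000104000081800004800020600007f00007800003e000004400010100007d800004800005e0000f000007a80003e800004a0000ed000051800005c0000220000e700000300000380000ce0000e700007a800003c0001ee0000e200001000003b40001ca00001200007980001340000480000e600006e80000480000b80000ee000017800003c0001d00000db00000900000740001d4000064000072000008c0001d00000df000009000036c0000920000d700000580000880001ba00007a00006b800001c00004200003300006a000038c00002c0000d200001680000800001a400000800000f800036c0001b000001200001b800034400003e000016000036000034400003600000e00005e000033c00003600000e00005d000033c00013c00001e]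
theorem s0 : chkChunks Eo inv W isH 32 L0 43 = true := by decide +kernel
theorem c0 : Covered Eo inv W isH 43 139 := covered_of_chunks 32 L0 43 139 rfl s0
theorem s1 : chkStream Eo inv W isH 2 139 0x224000110000010000044800013c000015 = true := by decide +kernel
theorem c1 : Covered Eo inv W isH 139 141 := covered_of_stream 2 139 _ s1
theorem l0 : chkPoints Eo cF (2 * nEv) N ys 1 0 0x8c800000000021e000000000086800000000022e00000000008a8000000000216000000 = true := by decide +kernel
theorem k0 : LinksOK Eo cF (2 * nEv) N ys 0 1 := linksOK_of_points 1 0 _ l0
end Cfsg.Agent.Lib.ToddCox.G24X
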